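import Groth.Agent.Lie3ModL.Main
import Groth.Agent.HopfFFLib.Nilradical
import Mathlib.RingTheory.Ideal.Colon

/-! The two components of the Jacobi scheme are linked. -/

namespace Lie3ModLib

open MvPolynomial

universe u

variable (A : Type u) [CommRing A]

local notation "P" => MvPolynomial (Fin 9) A

theorem coord_L : coord A (Lie3Mod.L1 A) = X 0 ∧ coord A (Lie3Mod.L2 A) = X 1 ∧ coord A (Lie3Mod.L3 A) = X 3 := by
  simp [coord, Lie3Mod.L1, Lie3Mod.L2, Lie3Mod.L3]

theorem idL_eq_ker : Lie3Mod.idL A = RingHom.ker (killL A) := by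
  obtain ⟨h1, h2, h3⟩ := coord_L A
  refine le_antisymm (Ideal.span_le.mpr ?_) fun x hx => ?_
  · rintro _ (rfl | rfl | rfl) <;> simp [killL, h1, h2, h3, kill]
  · have := mem_span_of_kill_eq_zero (S := ({0, 1, 3} : Finset (Fin 9))) (x := coord A x) hx
    have h := Ideal.mem_map_of_mem (coord A).symm this
    rw [AlgEquiv.symm_apply_apply, Ideal.map_span] at h
    refine Ideal.span_mono ?_ h
    rintro _ ⟨_, ⟨j, hj, rfl⟩, rfl⟩
    simp only [Finset.coe_insert, Finset.coe_singleton, Set.mem_insert_iff, Set.mem_singleton_iff] at hj ⊢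
    rcases hj with rfl | rfl | rfl
    · left; rw [AlgEquiv.symm_apply_eq, h1]
    · right; left; rw [AlgEquiv.symm_apply_eq, h2]
    · right; right; rw [AlgEquiv.symm_apply_eq, h3]

theorem mul_detM_mem {y : P} (hy : y ∈ Lie3Mod.idL A) : y * Lie3Mod.detM A ∈ Lie3Mod.idI A := by
  have key : ∀ (z : P) (a b c : P), coord A z * det' A = a * R₁ A + b * R₂ A + c * R₃ A →
      z * Lie3Mod.detM A ∈ Lie3Mod.idI A := by
    intro z a b c h
    have := congrArg (coord A).symm h
    simp only [map_add, map_mul, ← coord_Q1, ← coord_Q2, ← coord_Q3, ← coord_detM,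
      AlgEquiv.symm_apply_apply] at this
    rw [this]
    exact add_mem (add_mem (Ideal.mul_mem_left _ _ (Ideal.subset_span (by simp)))
      (Ideal.mul_mem_left _ _ (Ideal.subset_span (by simp))))
      (Ideal.mul_mem_left _ _ (Ideal.subset_span (by simp)))
  obtain ⟨h1, h2, h3⟩ := coord_L A
  induction hy using Submodule.span_induction with
  | mem z hz =>
    rcases hz with rfl | rfl | rfl
    · exact key _ _ _ _ (by rw [h1]; exact adj_one A)
    · exact key _ _ _ _ (by rw [h2]; exact adj_two A)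
    · exact key _ _ _ _ (by rw [h3]; exact adj_three A)
  | zero => simp
  | add y y' _ _ hy hy' => rw [add_mul]; exact add_mem hy hy'
  | smul c y _ hy => rw [smul_eq_mul, mul_assoc]; exact Ideal.mul_mem_left _ _ hy

variable [IsReduced A]

theorem idI_eq_inf : Lie3Mod.idI A = Lie3Mod.idJ A ⊓ Lie3Mod.idL A := by
  rw [idL_eq_ker]; exact idI_eq A

omit [IsReduced A] in
theorem mul_mem_idI {y z : P} (hy : y ∈ Lie3Mod.idL A) (hz : z ∈ Lie3Mod.idJ A) :
    y * z ∈ Lie3Mod.idI A := by
  induction hz using Submodule.span_induction with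
  | mem w hw =>
    rcases hw with rfl | rfl | rfl | rfl
    · exact Ideal.mul_mem_left _ _ (Ideal.subset_span (by simp))
    · exact Ideal.mul_mem_left _ _ (Ideal.subset_span (by simp))
    · exact Ideal.mul_mem_left _ _ (Ideal.subset_span (by simp))
    · exact mul_detM_mem A hy
  | zero => simp
  | add w w' _ _ h h' => rw [mul_add]; exact add_mem h h'
  | smul c w _ h => rw [smul_eq_mul, mul_left_comm]; exact Ideal.mul_mem_left _ _ h

theorem colon_L : (Lie3Mod.idI A).colon (Lie3Mod.idL A : Set (Lie3Mod.D A)) = Lie3Mod.idJ A := by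
  refine le_antisymm (fun x hx => ?_) fun x hx => Submodule.mem_colon.mpr fun y hy => ?_
  · have h : x * Lie3Mod.L3 A ∈ Lie3Mod.idI A :=
      Submodule.mem_colon.mp hx _ (Ideal.subset_span (by simp))
    have h' := idI_le_idJ A h
    rw [idJ_eq, Ideal.mem_comap, map_mul, (coord_L A).2.2, mul_comm] at h'
    rw [idJ_eq, Ideal.mem_comap]
    exact isSMulRegular_three A h'
  · rw [smul_eq_mul, mul_comm]; exact mul_mem_idI A hy hx

theorem colon_J : (Lie3Mod.idI A).colon (Lie3Mod.idJ A : Set (Lie3Mod.D A)) = Lie3Mod.idL A := by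
  refine le_antisymm (fun x hx => ?_) fun x hx => Submodule.mem_colon.mpr fun y hy => ?_
  · have h : x * Lie3Mod.detM A ∈ Lie3Mod.idI A :=
      Submodule.mem_colon.mp hx _ (Ideal.subset_span (by simp))
    rw [idI_eq_inf, idL_eq_ker] at h
    have h2 := RingHom.mem_ker.mp h.2
    rw [map_mul] at h2
    rw [idL_eq_ker, RingHom.mem_ker]
    refine eq_zero_of_mul_eval_unit ![(0 : A), 0, -1, 0, 0, 0, 0, 1, 0] ?_ h2
    simp [killL, coord_detM, kill]
  · rw [smul_eq_mul]; exact mul_mem_idI A hx hy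

end Lie3ModLib
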