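import Mathlib.Algebra.MvPolynomial.CommRing
import Mathlib.Algebra.MvPolynomial.Supported
import Mathlib.RingTheory.Ideal.Span
import Mathlib.RingTheory.Ideal.Operations
import Mathlib.Algebra.MvPolynomial.Basic
import Mathlib.RingTheory.Ideal.Maps
import Mathlib.RingTheory.MvPolynomial.Basic

/-! Kernels of monomial maps, via normal forms. -/

namespace Lie3ModLib

open MvPolynomial

universe u

variable {A : Type u} [CommRing A] {σ τ : Type*}

/-- A criterion for the kernel of a monomial map to be contained in an ideal `I`:
every monomial reduces modulo `I` to normal ones, and normal monomials have distinct images. -/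
theorem ker_le_of_normalForms (φ : MvPolynomial σ A →ₐ[A] MvPolynomial τ A)
    (I : Ideal (MvPolynomial σ A)) (hI : I ≤ RingHom.ker φ) (Nm : (σ →₀ ℕ) → Prop)
    (μ : (σ →₀ ℕ) → ℕ)
    (hred : ∀ d, ¬ Nm d → ∃ (c : A) (d' : σ →₀ ℕ), μ d' < μ d ∧
      monomial d 1 - monomial d' c ∈ I)
    (E : (σ →₀ ℕ) → (τ →₀ ℕ)) (ε : (σ →₀ ℕ) → A) (hε : ∀ d, IsUnit (ε d))
    (himg : ∀ d, φ (monomial d 1) = monomial (E d) (ε d)) (hE : Set.InjOn E {d | Nm d})
    {x : MvPolynomial σ A} (hx : φ x = 0) : x ∈ I := by
  classical
  let N : Submodule A (MvPolynomial σ A) := Submodule.span A ((fun d => monomial d 1) '' {d | Nm d})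
  let S : Submodule A (MvPolynomial σ A) := N ⊔ I.restrictScalars A
  have hmon : ∀ d, monomial d (1 : A) ∈ S := by
    intro d
    induction hd : μ d using Nat.strong_induction_on generalizing d with
    | h n ih =>
      by_cases hN : Nm d
      · exact Submodule.mem_sup_left (Submodule.subset_span ⟨d, hN, rfl⟩)
      · obtain ⟨c, d', hlt, hmem⟩ := hred d hN
        have h1 : monomial d' c ∈ S := by
          rw [show monomial d' c = c • monomial d' (1 : A) by rw [smul_monomial, smul_eq_mul, mul_one]]
          exact S.smul_mem c (ih _ (hd ▸ hlt) d' rfl)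
        simpa using S.add_mem (Submodule.mem_sup_right (show monomial d 1 - monomial d' c
          ∈ I.restrictScalars A from hmem) : _ ∈ S) h1
  have hall : x ∈ S := by
    rw [as_sum x]
    refine S.sum_mem fun d _ => ?_
    rw [show monomial d (coeff d x) = coeff d x • monomial d (1 : A) by
      rw [smul_monomial, smul_eq_mul, mul_one]]
    exact S.smul_mem _ (hmon d)
  obtain ⟨n, hn, i, hi, rfl⟩ := Submodule.mem_sup.mp hall
  have hφn : φ n = 0 := by
    have : φ i = 0 := hI hi
    rwa [map_add, this, add_zero] at hx
  suffices n = 0 by simpa [this] using hi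
  have hsupp : ∀ d ∈ n.support, Nm d := by
    intro d hd
    have : n ∈ restrictSupport A {d | Nm d} := by
      refine (Submodule.span_le.mpr ?_) hn
      rintro _ ⟨e, he, rfl⟩
      rw [SetLike.mem_coe, mem_restrictSupport_iff]
      exact subset_trans (Finset.coe_subset.mpr support_monomial_subset) (by simpa using he)
    exact (mem_restrictSupport_iff A).mp this hd
  by_contra h0
  obtain ⟨d, hd⟩ := Finset.nonempty_iff_ne_empty.mpr (mt support_eq_empty.mp h0)
  have hc : coeff (E d) (φ n) = coeff d n * ε d := by
    conv_lhs => rw [as_sum n, map_sum, coeff_sum]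
    rw [Finset.sum_eq_single d]
    · rw [show monomial d (coeff d n) = coeff d n • monomial d (1 : A) by
        rw [smul_monomial, smul_eq_mul, mul_one], map_smul, himg, coeff_smul, coeff_monomial,
        if_pos rfl, smul_eq_mul]
    · intro e he hne
      rw [show monomial e (coeff e n) = coeff e n • monomial e (1 : A) by
        rw [smul_monomial, smul_eq_mul, mul_one], map_smul, himg, coeff_smul, coeff_monomial,
        if_neg (fun h => hne (hE (hsupp e he) (hsupp d hd) h)), smul_zero]
    · exact fun h => absurd hd h
  rw [hφn, coeff_zero, eq_comm, (hε d).mul_left_eq_zero] at hc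
  exact mem_support_iff.mp hd hc

/-- Setting the variables in `S` to zero. -/
noncomputable def kill [DecidableEq σ] (S : Finset σ) : MvPolynomial σ A →ₐ[A] MvPolynomial σ A :=
  aeval fun j => if j ∈ S then 0 else X j

theorem sub_kill_mem [DecidableEq σ] (S : Finset σ) (x : MvPolynomial σ A) :
    x - kill S x ∈ Ideal.span (X '' (S : Set σ) : Set (MvPolynomial σ A)) := by
  induction x using MvPolynomial.induction_on with
  | C a => simp [kill]
  | add p q hp hq => rw [map_add, add_sub_add_comm]; exact add_mem hp hq
  | mul_X p j hp =>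
    rw [map_mul, show kill S (X j : MvPolynomial σ A) = if j ∈ S then 0 else X j by simp [kill]]
    split_ifs with hj
    · rw [mul_zero, sub_zero]
      exact Ideal.mul_mem_left _ _ (Ideal.subset_span ⟨j, hj, rfl⟩)
    · rw [← sub_mul]
      exact Ideal.mul_mem_right _ _ hp

theorem mem_span_of_kill_eq_zero [DecidableEq σ] {S : Finset σ} {x : MvPolynomial σ A}
    (h : kill S x = 0) : x ∈ Ideal.span (X '' (S : Set σ) : Set (MvPolynomial σ A)) := by
  simpa [h] using sub_kill_mem S x

end Lie3ModLib
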