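import Groth.Agent.Lie3ModL.Syzygy
import Groth.Prelude.Def_W4c1bouilletffgsL3
import Mathlib.RingTheory.Localization.FractionRing
import Mathlib.RingTheory.Ideal.Quotient.Basic
import Mathlib.RingTheory.Ideal.MinimalPrime.Basic
import Mathlib.RingTheory.Flat.TorsionFree
import Mathlib.Tactic.FieldSimp

/-! The component `J` of the scheme of three-dimensional Lie algebras is integral over any domain. -/

namespace Lie3ModLib

open MvPolynomial

universe u

variable (A : Type u) [CommRing A]

local notation "P" => MvPolynomial (Fin 9) A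

/-- The coordinates `l₁ = a - i`, `l₂ = b + f`, `l₃ = d + h`. -/
noncomputable def coord : P ≃ₐ[A] P :=
  AlgEquiv.ofAlgHom
    (aeval ![X 0 + X 8, X 1 - X 5, X 2, X 3 - X 7, X 4, X 5, X 6, X 7, X 8])
    (aeval ![X 0 - X 8, X 1 + X 5, X 2, X 3 + X 7, X 4, X 5, X 6, X 7, X 8])
    (by ext j : 1; fin_cases j <;> simp) (by ext j : 1; fin_cases j <;> simp)

theorem coord_Q1 : coord A (Lie3Mod.Q1 A) = R₁ A := by
  simp [coord, Lie3Mod.Q1]; ring

theorem coord_Q2 : coord A (Lie3Mod.Q2 A) = R₂ A := by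
  simp [coord, Lie3Mod.Q2]; ring

theorem coord_Q3 : coord A (Lie3Mod.Q3 A) = R₃ A := by
  simp [coord, Lie3Mod.Q3]; ring

theorem coord_detM : coord A (Lie3Mod.detM A) = det' A := by
  simp [coord, Lie3Mod.detM]

theorem idJ_eq : Lie3Mod.idJ A = (idK A).comap (coord A) := by
  have : idK A = (Lie3Mod.idJ A).map (coord A) := by
    rw [Lie3Mod.idJ, Ideal.map_span]
    simp [Set.image_insert_eq, coord_Q1, coord_Q2, coord_Q3, coord_detM]
  rw [this, Ideal.comap_map_of_bijective _ (coord A).bijective]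

variable [IsDomain A]

local notation "F" => FractionRing (MvPolynomial (Fin 9) A)

/-- The parametrisation of the component by `g, h, e, l₁, l₂, l₃`. -/
noncomputable def param : P →ₐ[A] F :=
  let x : Fin 9 → F := fun j => algebraMap P F (X j)
  let xi : F := -(x 7 * x 0 - x 6 * x 1) / x 3
  let xf : F := x 1 - (x 4 * x 0 + x 7 * x 1) / x 3
  aeval ![x 0, x 1, (xf * x 0 + xi * x 1) / x 3, x 3, x 4, xf, x 6, x 7, xi]

theorem x3_ne : algebraMap P F (X 3) ≠ 0 := by
  simp [X_ne_zero]

theorem idK_le_ker : idK A ≤ RingHom.ker (param A) := by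
  have h3 := x3_ne A
  have h1 : param A (R₁ A) = 0 := by simp [param]
  have h2 : param A (R₂ A) = 0 := by simp [param]
  have h4 : param A (R₃ A) = 0 := by simp [param]
  have hd : param A (det' A) = 0 := by
    have := congrArg (param A) (adj_three A)
    simp only [map_add, map_mul, h1, h2, h4, mul_zero, add_zero] at this
    refine (mul_eq_zero.mp this).resolve_left ?_
    simpa [param] using h3
  rw [Ideal.span_le]
  rintro _ (rfl | rfl | rfl | rfl) <;> assumption

/-- Elimination of `c, f, i` after multiplying by a power of `l₃`. -/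
theorem exists_reduce (x : P) :
    ∃ (n : ℕ) (r : P), X 3 ^ n * x - kill {2, 5, 8} r ∈ idK A := by
  have hfree : ∀ j : Fin 9, j ∉ ({2, 5, 8} : Finset (Fin 9)) →
      kill {2, 5, 8} (X j : P) = X j := fun j hj => by simp only [kill, aeval_X, if_neg hj]
  have hgen : ∀ j : Fin 9, ∃ (n : ℕ) (r : P), X 3 ^ n * X j - kill {2, 5, 8} r ∈ idK A := by
    intro j
    by_cases hj : j ∈ ({2, 5, 8} : Finset (Fin 9))
    · simp only [Finset.mem_insert, Finset.mem_singleton] at hj
      have mi : X 3 * X 8 - kill {2, 5, 8} (-(X 7 * X 0) + X 6 * X 1) ∈ idK A := by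
        convert R₁_mem A using 1; simp [kill]; ring
      have mf : X 3 * X 5 - kill {2, 5, 8} (X 3 * X 1 - X 4 * X 0 - X 7 * X 1) ∈ idK A := by
        convert neg_mem (R₂_mem A) using 1; simp [kill]; ring
      rcases hj with rfl | rfl | rfl
      · refine ⟨2, (X 3 * X 1 - X 4 * X 0 - X 7 * X 1) * X 0 + (-(X 7 * X 0) + X 6 * X 1) * X 1, ?_⟩
        convert add_mem (add_mem (Ideal.mul_mem_left _ (X 3) (R₃_mem A))
          (Ideal.mul_mem_left _ (X 0) mf)) (Ideal.mul_mem_left _ (X 1) mi) using 1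
        simp [kill]; ring
      · exact ⟨1, X 3 * X 1 - X 4 * X 0 - X 7 * X 1, by rw [pow_one]; exact mf⟩
      · exact ⟨1, -(X 7 * X 0) + X 6 * X 1, by rw [pow_one]; exact mi⟩
    · exact ⟨0, X j, by simp [hfree j hj]⟩
  induction x using MvPolynomial.induction_on with
  | C a => exact ⟨0, C a, by simp [kill]⟩
  | add p q hp hq =>
    obtain ⟨n, r, hr⟩ := hp
    obtain ⟨m, s, hs⟩ := hq
    refine ⟨n + m, X 3 ^ m * r + X 3 ^ n * s, ?_⟩
    convert add_mem (Ideal.mul_mem_left _ (X 3 ^ m) hr) (Ideal.mul_mem_left _ (X 3 ^ n) hs) using 1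
    simp [map_add, map_mul, map_pow, hfree 3 (by decide)]; ring
  | mul_X p j hp =>
    obtain ⟨n, r, hr⟩ := hp
    obtain ⟨m, s, hs⟩ := hgen j
    refine ⟨n + m, r * s, ?_⟩
    convert add_mem (Ideal.mul_mem_left _ (X 3 ^ m * X j) hr)
      (Ideal.mul_mem_left _ (kill {2, 5, 8} r) hs) using 1
    simp [map_mul]; ring

theorem idK_eq_ker : idK A = RingHom.ker (param A) := by
  refine le_antisymm (idK_le_ker A) fun x hx => ?_
  obtain ⟨n, r, hr⟩ := exists_reduce A x
  have hcomp : (param A).comp (kill {2, 5, 8}) =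
      (IsScalarTower.toAlgHom A P F).comp (kill {2, 5, 8}) := by
    ext j : 1
    fin_cases j <;> simp [param, kill]
  have h0 := idK_le_ker A hr
  rw [RingHom.mem_ker, map_sub, map_mul, RingHom.mem_ker.mp hx, mul_zero, zero_sub, neg_eq_zero,
    ← AlgHom.comp_apply, hcomp, AlgHom.comp_apply, IsScalarTower.coe_toAlgHom'] at h0
  have hr0 : kill {2, 5, 8} r = 0 := IsFractionRing.injective P F (by rwa [map_zero])
  rw [hr0, sub_zero] at hr
  clear h0 hx
  induction n with
  | zero => simpa using hr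
  | succ n ih => exact ih (isSMulRegular_three A (by rwa [← mul_assoc, ← pow_succ']))

theorem idK_isPrime : (idK A).IsPrime := idK_eq_ker A ▸ RingHom.ker_isPrime _

theorem X_three_not_mem : (X 3 : P) ∉ idK A := by
  rw [idK_eq_ker, RingHom.mem_ker]
  simpa [param] using x3_ne A

theorem idJ_isPrime : (Lie3Mod.idJ A).IsPrime :=
  idJ_eq A ▸ (idK_isPrime A).comap _

theorem L3_not_mem : Lie3Mod.L3 A ∉ Lie3Mod.idJ A := by
  rw [idJ_eq, Ideal.mem_comap]
  simpa [coord, Lie3Mod.L3] using X_three_not_mem A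

omit [IsDomain A] in
theorem L3_mul_detM_mem : Lie3Mod.L3 A * Lie3Mod.detM A ∈ Lie3Mod.idI A := by
  have := congrArg (coord A).symm (adj_three A)
  rw [map_mul, map_add, map_add, map_mul, map_mul, map_mul, ← coord_Q1, ← coord_Q2, ← coord_Q3,
    ← coord_detM] at this
  simp only [AlgEquiv.symm_apply_apply] at this
  rw [show (coord A).symm (X 3) = Lie3Mod.L3 A by
    rw [AlgEquiv.symm_apply_eq]; simp [coord, Lie3Mod.L3]] at this
  rw [this]
  exact add_mem (add_mem (Ideal.mul_mem_left _ _ (Ideal.subset_span (by simp)))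
    (Ideal.mul_mem_left _ _ (Ideal.subset_span (by simp))))
    (Ideal.mul_mem_left _ _ (Ideal.subset_span (by simp)))

omit [IsDomain A] in
theorem idI_le_idJ : Lie3Mod.idI A ≤ Lie3Mod.idJ A :=
  Ideal.span_mono (by intro x; simp; tauto)

theorem idJ_mem_minimalPrimes : Lie3Mod.idJ A ∈ (Lie3Mod.idI A).minimalPrimes := by
  refine ⟨⟨idJ_isPrime A, idI_le_idJ A⟩, fun q ⟨hq, hIq⟩ hqJ => ?_⟩
  have hd : Lie3Mod.detM A ∈ q :=
    (hq.mem_or_mem (hIq (L3_mul_detM_mem A))).resolve_left fun h => L3_not_mem A (hqJ h)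
  refine Ideal.span_le.mpr ?_
  rintro _ (rfl | rfl | rfl | rfl)
  · exact hIq (Ideal.subset_span (by simp))
  · exact hIq (Ideal.subset_span (by simp))
  · exact hIq (Ideal.subset_span (by simp))
  · exact hd

/-- The projection killing `L1, L2, L3`. -/
noncomputable def killL : P →ₐ[A] P := (kill {0, 1, 3}).comp (coord A).toAlgHom

omit [IsDomain A] in
theorem idI_eq [IsReduced A] : Lie3Mod.idI A = Lie3Mod.idJ A ⊓ RingHom.ker (killL A) := by
  refine le_antisymm (le_inf (idI_le_idJ A) ?_) ?_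
  · refine Ideal.span_le.mpr ?_
    rintro _ (rfl | rfl | rfl) <;>
      simp [killL, RingHom.mem_ker, coord_Q1, coord_Q2, coord_Q3, kill]
  · rintro x ⟨hxJ, hxL⟩
    have hspan : Lie3Mod.idJ A = Ideal.span {Lie3Mod.detM A} ⊔ Lie3Mod.idI A := by
      rw [Lie3Mod.idJ, Lie3Mod.idI, ← Ideal.span_union]
      congr 1
      ext y; simp only [Set.mem_insert_iff, Set.mem_singleton_iff, Set.mem_union]; tauto
    rw [hspan, SetLike.mem_coe, Submodule.mem_sup] at hxJ
    obtain ⟨y, hy, z, hz, rfl⟩ := hxJ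
    obtain ⟨a, rfl⟩ := Ideal.mem_span_singleton'.mp hy
    refine add_mem ?_ hz
    have hz' : killL A z = 0 := by
      have : Lie3Mod.idI A ≤ RingHom.ker (killL A) := by
        refine Ideal.span_le.mpr ?_
        rintro _ (rfl | rfl | rfl) <;>
          simp [killL, RingHom.mem_ker, coord_Q1, coord_Q2, coord_Q3, kill]
      exact this hz
    have hda : killL A a = 0 := by
      have h := RingHom.mem_ker.mp hxL
      rw [map_add, hz', add_zero, map_mul] at h
      refine eq_zero_of_mul_eval_unit ![(0 : A), 0, -1, 0, 0, 0, 0, 1, 0] ?_ h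
      simp [killL, coord_detM, kill]
    have ha := mem_span_of_kill_eq_zero (S := ({0, 1, 3} : Finset (Fin 9))) (x := coord A a) hda
    have key : ∀ w ∈ Ideal.span (X '' (({0, 1, 3} : Finset (Fin 9)) : Set (Fin 9)) : Set P),
        (coord A).symm (w * det' A) ∈ Lie3Mod.idI A := by
      intro w hw
      induction hw using Submodule.span_induction with
      | mem y hy =>
        obtain ⟨j, hj, rfl⟩ := hy
        simp only [Finset.coe_insert, Finset.coe_singleton, Set.mem_insert_iff, Set.mem_singleton_iff] at hj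
        rcases hj with rfl | rfl | rfl <;>
        · first | rw [adj_one] | rw [adj_two] | rw [adj_three]
          simp only [map_add, map_mul, ← coord_Q1, ← coord_Q2, ← coord_Q3, AlgEquiv.symm_apply_apply]
          exact add_mem (add_mem (Ideal.mul_mem_left _ _ (Ideal.subset_span (by simp)))
            (Ideal.mul_mem_left _ _ (Ideal.subset_span (by simp))))
            (Ideal.mul_mem_left _ _ (Ideal.subset_span (by simp)))
      | zero => simp
      | add y y' _ _ hy hy' => rw [add_mul, map_add]; exact add_mem hy hy'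
      | smul c y _ hy =>
        rw [smul_eq_mul, mul_assoc, map_mul]
        exact Ideal.mul_mem_left _ _ hy
    simpa [← coord_detM, map_mul] using key _ ha

theorem idI_isRadical : (Lie3Mod.idI A).IsRadical := by
  rw [idI_eq]
  exact (idJ_isPrime A).isRadical.inf (RingHom.ker_isPrime (killL A)).isRadical

theorem intCast_mem_idI {n : A} (hn : n ≠ 0) {x : P} (h : C n * x ∈ Lie3Mod.idI A) :
    x ∈ Lie3Mod.idI A := by
  rw [idI_eq] at h ⊢
  refine ⟨((idJ_isPrime A).mem_or_mem h.1).resolve_left fun hc => ?_,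
    ((RingHom.ker_isPrime (killL A)).mem_or_mem h.2).resolve_left fun hc => ?_⟩
  · rw [idJ_eq, Ideal.mem_comap, idK_eq_ker] at hc
    simp [coord, param, hn] at hc
  · simp [killL, coord, kill, RingHom.mem_ker, hn] at hc

theorem intCast_mem_idJ {n : A} (hn : n ≠ 0) {x : P} (h : C n * x ∈ Lie3Mod.idJ A) :
    x ∈ Lie3Mod.idJ A := by
  refine ((idJ_isPrime A).mem_or_mem h).resolve_left fun hc => ?_
  rw [idJ_eq, Ideal.mem_comap, idK_eq_ker] at hc
  simp [coord, param, hn] at hc

end Lie3ModLib
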