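import Groth.Agent.Lie3ModL.Kernels
import Mathlib.RingTheory.Ideal.Maps
import Mathlib.Algebra.MvPolynomial.NoZeroDivisors
import Mathlib.Tactic.FinCases
import Mathlib.Tactic.LinearCombination
import Mathlib.RingTheory.Nilpotent.Lemmas
import Mathlib.RingTheory.Ideal.Quotient.Basic

/-! Syzygies of the Jacobi equations at `l₃ = 0`, in coordinates
`l₁ = X 0, l₂ = X 1, c = X 2, l₃ = X 3, e = X 4, f = X 5, g = X 6, h = X 7, i = X 8`. -/

namespace Lie3ModLib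

open MvPolynomial

universe u

variable (A : Type u) [CommRing A]

local notation "P" => MvPolynomial (Fin 9) A

noncomputable abbrev g₁ : P := X 7 * X 0 - X 6 * X 1
noncomputable abbrev g₂ : P := -(X 4 * X 0) - X 7 * X 1
noncomputable abbrev g₃ : P := -(X 5 * X 0) - X 8 * X 1
noncomputable abbrev R₁ : P := g₁ A + X 8 * X 3
noncomputable abbrev R₂ : P := g₂ A + (X 1 - X 5) * X 3
noncomputable abbrev R₃ : P := g₃ A + X 2 * X 3
noncomputable abbrev D₂ : P := -(X 7 * X 7) - X 6 * X 4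
noncomputable abbrev A₁₁ : P := -(X 7 * X 2) + X 8 * (X 1 - X 5)
noncomputable abbrev A₁₂ : P := X 6 * X 2 - X 8 * X 8
noncomputable abbrev A₁₃ : P := -(X 6 * (X 1 - X 5)) + X 7 * X 8
noncomputable abbrev A₂₁ : P := X 4 * X 2 - (X 1 - X 5) * X 5
noncomputable abbrev A₂₂ : P := X 7 * X 2 + X 8 * X 5
noncomputable abbrev A₂₃ : P := -(X 7 * (X 1 - X 5)) - X 4 * X 8
noncomputable abbrev A₃₁ : P := X 4 * X 8 - X 7 * X 5
noncomputable abbrev A₃₂ : P := X 7 * X 8 + X 6 * X 5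
noncomputable abbrev det' : P := -(X 2 * X 7 ^ 2) + X 6 * (X 1 - X 5) * X 5 + X 4 * X 8 ^ 2
  - X 6 * X 4 * X 2 + X 7 * (X 1 - X 5) * X 8 - X 8 * X 7 * X 5
noncomputable abbrev idK : Ideal P := Ideal.span {R₁ A, R₂ A, R₃ A, det' A}

theorem R₁_mem : R₁ A ∈ idK A := Ideal.subset_span (by simp)
theorem R₂_mem : R₂ A ∈ idK A := Ideal.subset_span (by simp)
theorem R₃_mem : R₃ A ∈ idK A := Ideal.subset_span (by simp)
theorem det'_mem : det' A ∈ idK A := Ideal.subset_span (by simp)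

theorem adj_one : X 0 * det' A = A₁₁ A * R₁ A + A₁₂ A * R₂ A + A₁₃ A * R₃ A := by ring
theorem adj_two : X 1 * det' A = A₂₁ A * R₁ A + A₂₂ A * R₂ A + A₂₃ A * R₃ A := by ring
theorem adj_three : X 3 * det' A = A₃₁ A * R₁ A + A₃₂ A * R₂ A + D₂ A * R₃ A := by ring

/-- The map whose kernel is the component of `g₁ = g₂ = 0` with `(l₁, l₂) ≠ 0`. -/
noncomputable def phi : P →ₐ[A] P :=
  aeval ![X 0, X 1, X 2, X 3, -(X 6 * X 1 ^ 2), X 5, X 6 * X 0 ^ 2, X 6 * X 0 * X 1, X 8]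

/-- The map whose kernel is the ideal of `g₂`. -/
noncomputable def rho : P →ₐ[A] P :=
  aeval ![X 0, X 1, X 2, X 3, X 4 * X 1, X 5, X 6, -(X 4 * X 0), X 8]

noncomputable abbrev idP : Ideal P := Ideal.span {g₁ A, g₂ A, D₂ A}

/-- The exponent of a monomial. -/
noncomputable def ex (a0 a1 a2 a3 a4 a5 a6 a7 a8 : ℕ) : Fin 9 →₀ ℕ :=
  Finsupp.equivFunOnFinite.symm ![a0, a1, a2, a3, a4, a5, a6, a7, a8]

theorem monomial_eq_prod (d : Fin 9 →₀ ℕ) :
    (monomial d 1 : P) = X 0 ^ d 0 * X 1 ^ d 1 * X 2 ^ d 2 * X 3 ^ d 3 * X 4 ^ d 4 * X 5 ^ d 5 *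
      X 6 ^ d 6 * X 7 ^ d 7 * X 8 ^ d 8 := by
  rw [monomial_eq, map_one, one_mul, Finsupp.prod_fintype _ _ (fun _ => pow_zero _)]
  simp [Fin.prod_univ_succ]
  ring

theorem monomial_ex (a0 a1 a2 a3 a4 a5 a6 a7 a8 : ℕ) :
    (monomial (ex a0 a1 a2 a3 a4 a5 a6 a7 a8) 1 : P) = X 0 ^ a0 * X 1 ^ a1 * X 2 ^ a2 * X 3 ^ a3 *
      X 4 ^ a4 * X 5 ^ a5 * X 6 ^ a6 * X 7 ^ a7 * X 8 ^ a8 := by
  rw [monomial_eq_prod]; rfl

theorem monomial_neg_one_pow (e : Fin 9 →₀ ℕ) (n : ℕ) :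
    (monomial e ((-1 : A) ^ n) : P) = (-1) ^ n * monomial e 1 := by
  rw [show (-1 : P) ^ n = C ((-1 : A) ^ n) by simp, C_mul_monomial, mul_one]

theorem exp_ext {d e : Fin 9 →₀ ℕ} (h0 : d 0 = e 0) (h1 : d 1 = e 1) (h2 : d 2 = e 2)
    (h3 : d 3 = e 3) (h4 : d 4 = e 4) (h5 : d 5 = e 5) (h6 : d 6 = e 6) (h7 : d 7 = e 7)
    (h8 : d 8 = e 8) : d = e := by
  ext j
  fin_cases j <;> assumption

theorem ker_phi {x : P} (hx : phi A x = 0) : x ∈ idP A := by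
  refine ker_le_of_normalForms (phi A) _ ?_
    (fun d => (d 1 = 0 ∨ (d 6 = 0 ∧ d 7 = 0)) ∧ d 7 ≤ 1) (fun d => 3 * d 1 + d 7) ?_
    (fun d => ex (d 0 + 2 * d 6 + d 7) (d 1 + 2 * d 4 + d 7) (d 2) (d 3) 0 (d 5)
      (d 4 + d 6 + d 7) 0 (d 8))
    (fun d => (-1) ^ d 4) (fun d => IsUnit.pow _ isUnit_one.neg) ?_ ?_ hx
  · rw [Ideal.span_le]
    rintro _ (rfl | rfl | rfl) <;> simp [RingHom.mem_ker, phi] <;> ring
  · intro d hd
    by_cases hg : d 1 ≠ 0 ∧ d 6 ≠ 0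
    · obtain ⟨⟨a1, h1⟩, ⟨a6, h6⟩⟩ : (∃ n, d 1 = n + 1) ∧ (∃ n, d 6 = n + 1) :=
        ⟨⟨d 1 - 1, by omega⟩, ⟨d 6 - 1, by omega⟩⟩
      refine ⟨1, ex (d 0 + 1) a1 (d 2) (d 3) (d 4) (d 5) a6 (d 7 + 1) (d 8), ?_, ?_⟩
      · simp [ex, h1]; omega
      · have : monomial d 1 - monomial (ex (d 0 + 1) a1 (d 2) (d 3) (d 4) (d 5) a6 (d 7 + 1) (d 8)) 1
            = -(X 0 ^ d 0 * X 1 ^ a1 * X 2 ^ d 2 * X 3 ^ d 3 * X 4 ^ d 4 * X 5 ^ d 5 *
              X 6 ^ a6 * X 7 ^ d 7 * X 8 ^ d 8) * g₁ A := by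
          rw [monomial_eq_prod, monomial_ex, h1, h6]; ring
        rw [this]; exact Ideal.mul_mem_left _ _ (Ideal.subset_span (by simp))
    · by_cases hh : d 1 ≠ 0 ∧ d 7 ≠ 0
      · obtain ⟨⟨a1, h1⟩, ⟨a7, h7⟩⟩ : (∃ n, d 1 = n + 1) ∧ (∃ n, d 7 = n + 1) :=
          ⟨⟨d 1 - 1, by omega⟩, ⟨d 7 - 1, by omega⟩⟩
        refine ⟨-1, ex (d 0 + 1) a1 (d 2) (d 3) (d 4 + 1) (d 5) (d 6) a7 (d 8), ?_, ?_⟩
        · simp [ex, h1, h7]; omega
        · have : monomial d 1 -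
              monomial (ex (d 0 + 1) a1 (d 2) (d 3) (d 4 + 1) (d 5) (d 6) a7 (d 8)) (-1)
              = -(X 0 ^ d 0 * X 1 ^ a1 * X 2 ^ d 2 * X 3 ^ d 3 * X 4 ^ d 4 * X 5 ^ d 5 *
                X 6 ^ d 6 * X 7 ^ a7 * X 8 ^ d 8) * g₂ A := by
            rw [map_neg, monomial_eq_prod, monomial_ex, h1, h7]; ring
          rw [this]; exact Ideal.mul_mem_left _ _ (Ideal.subset_span (by simp))
      · obtain ⟨a7, h7⟩ : ∃ n, d 7 = n + 2 := by
          exact ⟨d 7 - 2, by omega⟩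
        refine ⟨-1, ex (d 0) (d 1) (d 2) (d 3) (d 4 + 1) (d 5) (d 6 + 1) a7 (d 8), ?_, ?_⟩
        · simp [ex, h7]
        · have : monomial d 1 -
              monomial (ex (d 0) (d 1) (d 2) (d 3) (d 4 + 1) (d 5) (d 6 + 1) a7 (d 8)) (-1)
              = -(X 0 ^ d 0 * X 1 ^ d 1 * X 2 ^ d 2 * X 3 ^ d 3 * X 4 ^ d 4 * X 5 ^ d 5 *
                X 6 ^ d 6 * X 7 ^ a7 * X 8 ^ d 8) * D₂ A := by
            rw [map_neg, monomial_eq_prod, monomial_ex, h7]; ring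
          rw [this]; exact Ideal.mul_mem_left _ _ (Ideal.subset_span (by simp))
  · intro d
    rw [monomial_neg_one_pow, monomial_eq_prod, monomial_ex]
    simp only [map_mul, map_pow, map_one, phi, aeval_X, neg_pow (X 6 * X 1 ^ 2 : P), Matrix.cons_val,
      one_mul]
    ring
  · intro d hd e he h
    have hk : ∀ j, _ = _ := fun j => DFunLike.congr_fun h j
    have h0 := hk 0; have h1 := hk 1; have h2 := hk 2; have h3 := hk 3; have h5 := hk 5
    have h6 := hk 6; have h8 := hk 8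
    simp [ex] at h0 h1 h2 h3 h5 h6 h8
    simp only [Set.mem_setOf_eq] at hd he
    apply exp_ext <;> omega

theorem ker_rho {x : P} (hx : rho A x = 0) : ∃ a, x = a * g₂ A := by
  suffices x ∈ Ideal.span {g₂ A} by
    obtain ⟨a, ha⟩ := Ideal.mem_span_singleton'.mp this
    exact ⟨a, ha.symm⟩
  refine ker_le_of_normalForms (rho A) _ ?_
    (fun d => d 1 = 0 ∨ d 7 = 0) (fun d => d 1) ?_
    (fun d => ex (d 0 + d 7) (d 1 + d 4) (d 2) (d 3) (d 4 + d 7) (d 5) (d 6) 0 (d 8))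
    (fun d => (-1) ^ d 7) (fun d => IsUnit.pow _ isUnit_one.neg) ?_ ?_ hx
  · rw [Ideal.span_le]
    rintro _ rfl
    simp [RingHom.mem_ker, rho]; ring
  · intro d hd
    obtain ⟨⟨a1, h1⟩, ⟨a7, h7⟩⟩ : (∃ n, d 1 = n + 1) ∧ (∃ n, d 7 = n + 1) :=
      ⟨⟨d 1 - 1, by omega⟩, ⟨d 7 - 1, by omega⟩⟩
    refine ⟨-1, ex (d 0 + 1) a1 (d 2) (d 3) (d 4 + 1) (d 5) (d 6) a7 (d 8), ?_, ?_⟩
    · simp [ex, h1]
    · have : monomial d 1 -
          monomial (ex (d 0 + 1) a1 (d 2) (d 3) (d 4 + 1) (d 5) (d 6) a7 (d 8)) (-1)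
          = -(X 0 ^ d 0 * X 1 ^ a1 * X 2 ^ d 2 * X 3 ^ d 3 * X 4 ^ d 4 * X 5 ^ d 5 *
            X 6 ^ d 6 * X 7 ^ a7 * X 8 ^ d 8) * g₂ A := by
        rw [map_neg, monomial_eq_prod, monomial_ex, h1, h7]; ring
      rw [this]; exact Ideal.mul_mem_left _ _ (Ideal.subset_span rfl)
  · intro d
    rw [monomial_neg_one_pow, monomial_eq_prod, monomial_ex]
    simp only [map_mul, map_pow, map_one, rho, aeval_X, neg_pow (X 4 * X 0 : P), Matrix.cons_val,
      one_mul]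
    ring
  · intro d hd e he h
    have hk : ∀ j, _ = _ := fun j => DFunLike.congr_fun h j
    have h0 := hk 0; have h1 := hk 1; have h2 := hk 2; have h3 := hk 3; have h4 := hk 4
    have h5 := hk 5; have h6 := hk 6; have h8 := hk 8
    simp [ex] at h0 h1 h2 h3 h4 h5 h6 h8
    simp only [Set.mem_setOf_eq] at hd he
    apply exp_ext <;> omega

variable {A} in
/-- Over a reduced ring, a polynomial with a unit value is regular. -/
theorem eq_zero_of_mul_eval_unit [IsReduced A] {σ : Type*} {a f : MvPolynomial σ A} (v : σ → A)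
    (hv : IsUnit (eval v f)) (h : a * f = 0) : a = 0 := by
  ext d
  rw [coeff_zero]
  refine IsNilpotent.eq_zero ?_
  rw [← mem_nilradical, nilradical_eq_sInf, Ideal.mem_sInf]
  intro I (hI : I.IsPrime)
  have : MvPolynomial.map (Ideal.Quotient.mk I) f ≠ 0 := fun h0 => by
    have h1 := congrArg (eval fun j => Ideal.Quotient.mk I (v j)) h0
    rw [eval_map, map_zero, show eval₂ (Ideal.Quotient.mk I) (fun j => Ideal.Quotient.mk I (v j)) f
      = Ideal.Quotient.mk I (eval v f) from (eval₂_comp (Ideal.Quotient.mk I) v f).symm] at h1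
    exact hI.ne_top (Ideal.eq_top_of_isUnit_mem _ (Ideal.Quotient.eq_zero_iff_mem.1 h1) hv)
  have h2 := congrArg (MvPolynomial.map (Ideal.Quotient.mk I)) h
  rw [map_mul, map_zero] at h2
  have h3 := congrArg (coeff d) ((mul_eq_zero.mp h2).resolve_right this)
  rwa [coeff_map, coeff_zero, Ideal.Quotient.eq_zero_iff_mem] at h3

variable [IsReduced A]

/-- Every syzygy at `l₃ = 0` lifts. -/
theorem syz_lift (a₁ a₂ a₃ a₄ : P)
    (h : a₁ * g₁ A + a₂ * g₂ A + a₃ * g₃ A + a₄ * kill {3} (det' A) = 0) :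
    ∃ y ∈ idK A, a₁ * R₁ A + a₂ * R₂ A + a₃ * R₃ A + a₄ * det' A = X 3 * y := by
  have hkd : kill {3} (det' A) = det' A := by simp [kill]
  rw [hkd] at h
  -- step 1 : `a₄` vanishes on `l₁ = l₂ = 0`
  have h4 : a₄ ∈ Ideal.span (X '' ((({0, 1} : Finset (Fin 9))) : Set (Fin 9)) : Set P) := by
    refine mem_span_of_kill_eq_zero ?_
    have hd0 : IsUnit (eval ![(0 : A), 0, -1, 0, 0, 0, 0, 1, 0] (kill {0, 1} (det' A))) := by
      simp [kill]
    have := congrArg (kill {0, 1}) h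
    simp only [map_add, map_mul, map_zero] at this
    have e : ∀ b : P, kill {0, 1} b * kill {0, 1} (g₁ A) = 0 ∧ kill {0, 1} b * kill {0, 1} (g₂ A) = 0 ∧
        kill {0, 1} b * kill {0, 1} (g₃ A) = 0 := fun b => by simp [kill]
    rw [(e a₁).1, (e a₂).2.1, (e a₃).2.2, zero_add, zero_add, zero_add] at this
    exact eq_zero_of_mul_eval_unit _ hd0 this
  rw [Finset.coe_pair, Set.image_pair, Ideal.mem_span_pair] at h4
  obtain ⟨u, v, rfl⟩ := h4
  set b₁ := a₁ + u * A₁₁ A + v * A₂₁ A with hb₁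
  set b₂ := a₂ + u * A₁₂ A + v * A₂₂ A with hb₂
  set b₃ := a₃ + u * A₁₃ A + v * A₂₃ A with hb₃
  -- step 2 : modulo `det`, reduce the third coefficient
  have hb : kill {3} b₁ * g₁ A + kill {3} b₂ * g₂ A + kill {3} b₃ * g₃ A = 0 := by
    have h' := congrArg (kill {3}) h
    have e1 := congrArg (kill {3}) (adj_one A)
    have e2 := congrArg (kill {3}) (adj_two A)
    simp [kill] at h' e1 e2
    simp [kill, hb₁, hb₂, hb₃]
    linear_combination h' - (kill {3} u) * e1 - (kill {3} v) * e2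
  obtain ⟨r₁, hr₁⟩ : ∃ r, b₁ - kill {3} b₁ = r * X 3 := by
    have := sub_kill_mem ({3} : Finset (Fin 9)) b₁
    rw [Finset.coe_singleton, Set.image_singleton, Ideal.mem_span_singleton'] at this
    exact this.imp fun _ => Eq.symm
  obtain ⟨r₂, hr₂⟩ : ∃ r, b₂ - kill {3} b₂ = r * X 3 := by
    have := sub_kill_mem ({3} : Finset (Fin 9)) b₂
    rw [Finset.coe_singleton, Set.image_singleton, Ideal.mem_span_singleton'] at this
    exact this.imp fun _ => Eq.symm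
  obtain ⟨r₃, hr₃⟩ : ∃ r, b₃ - kill {3} b₃ = r * X 3 := by
    have := sub_kill_mem ({3} : Finset (Fin 9)) b₃
    rw [Finset.coe_singleton, Set.image_singleton, Ideal.mem_span_singleton'] at this
    exact this.imp fun _ => Eq.symm
  set c₁ := kill {3} b₁
  set c₂ := kill {3} b₂
  set c₃ := kill {3} b₃
  have hc3 : c₃ ∈ idP A := by
    refine ker_phi A ?_
    have hne : IsUnit (eval ![(1 : A), 0, 0, 0, 0, 1, 0, 0, 0] (phi A (g₃ A))) := by
      simp [phi]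
    have := congrArg (phi A) hb
    simp only [map_add, map_mul, map_zero] at this
    have z1 : phi A (g₁ A) = 0 := by simp [phi]; ring
    have z2 : phi A (g₂ A) = 0 := by simp [phi]; ring
    rw [z1, z2, mul_zero, mul_zero, zero_add, zero_add] at this
    exact eq_zero_of_mul_eval_unit _ hne this
  obtain ⟨α, r, hr, hc3'⟩ := Ideal.mem_span_insert.mp hc3
  obtain ⟨β, γ, rfl⟩ := Ideal.mem_span_pair.mp hr
  -- step 3 : the remaining relation between `g₁` and `g₂`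
  set p₁ := c₁ + α * g₃ A - γ * A₃₁ A with hp₁
  set p₂ := c₂ + β * g₃ A - γ * A₃₂ A with hp₂
  have hp : p₁ * g₁ A + p₂ * g₂ A = 0 := by
    have e3 := congrArg (kill {3}) (adj_three A)
    simp [kill] at e3
    rw [hp₁, hp₂]
    linear_combination hb - g₃ A * hc3' + γ * e3
  obtain ⟨l, hl⟩ : ∃ l, p₁ = l * g₂ A := by
    refine ker_rho A ?_
    have hne : IsUnit (eval ![(0 : A), 1, 0, 0, 0, 0, 1, 0, 0] (rho A (g₁ A))) := by
      simp [rho]
    have := congrArg (rho A) hp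
    simp only [map_add, map_mul, map_zero] at this
    have z2 : rho A (g₂ A) = 0 := by simp [rho]; ring
    rw [z2, mul_zero, add_zero] at this
    exact eq_zero_of_mul_eval_unit _ hne this
  have hl2 : p₂ = -(l * g₁ A) := by
    have hne : IsUnit (eval ![(1 : A), 0, 0, 0, 1, 0, 0, 0, 0] (g₂ A)) := by
      simp
    refine eq_neg_of_add_eq_zero_left (eq_zero_of_mul_eval_unit _ hne ?_)
    linear_combination hp - g₁ A * hl
  refine ⟨r₁ * R₁ A + r₂ * R₂ A + r₃ * R₃ A + γ * det' A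
    + (α * X 2 * R₁ A - α * X 8 * R₃ A) + (β * X 2 * R₂ A - β * (X 1 - X 5) * R₃ A)
    + l * (X 8 * R₂ A - (X 1 - X 5) * R₁ A), ?_, ?_⟩
  · refine add_mem (add_mem (add_mem (add_mem (add_mem (add_mem ?_ ?_) ?_) ?_)
      (sub_mem ?_ ?_)) (sub_mem ?_ ?_)) (Ideal.mul_mem_left _ _ (sub_mem ?_ ?_))
    all_goals first
      | exact Ideal.mul_mem_left _ _ (R₁_mem A)
      | exact Ideal.mul_mem_left _ _ (R₂_mem A)
      | exact Ideal.mul_mem_left _ _ (R₃_mem A)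
      | exact Ideal.mul_mem_left _ _ (det'_mem A)
  · linear_combination R₁ A * hr₁ + R₂ A * hr₂ + R₃ A * hr₃ + R₁ A * (hl - hp₁) + R₂ A * (hl2 - hp₂)
      + R₃ A * hc3' + u * adj_one A + v * adj_two A - γ * adj_three A
      - R₁ A * hb₁ - R₂ A * hb₂ - R₃ A * hb₃

theorem isSMulRegular_three {x : P} (hx : X 3 * x ∈ idK A) : x ∈ idK A := by
  rw [idK, Ideal.mem_span_insert] at hx
  obtain ⟨a₁, z, hz, hx⟩ := hx
  obtain ⟨a₂, z', hz', rfl⟩ := Ideal.mem_span_insert.mp hz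
  obtain ⟨a₃, a₄, rfl⟩ := Ideal.mem_span_pair.mp hz'
  have hk := congrArg (kill {3}) hx
  simp [kill] at hk
  have hs : ∀ a : P, a - kill {3} a ∈ Ideal.span {(X 3 : P)} := fun a => by
    simpa using sub_kill_mem ({3} : Finset (Fin 9)) a
  simp only [Ideal.mem_span_singleton'] at hs
  obtain ⟨s₁, hs₁⟩ := hs a₁; obtain ⟨s₂, hs₂⟩ := hs a₂
  obtain ⟨s₃, hs₃⟩ := hs a₃; obtain ⟨s₄, hs₄⟩ := hs a₄
  obtain ⟨y, hy, hy'⟩ := syz_lift A (kill {3} a₁) (kill {3} a₂) (kill {3} a₃) (kill {3} a₄) (by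
    simp [kill]
    linear_combination -hk)
  rw [(isRegular_X (R := A) (n := (3 : Fin 9))).left (show X 3 * x = X 3 *
      (y + (s₁ * R₁ A + s₂ * R₂ A + s₃ * R₃ A + s₄ * det' A)) by
    linear_combination hx + hy' - R₁ A * hs₁ - R₂ A * hs₂ - R₃ A * hs₃ - det' A * hs₄)]
  exact add_mem hy (add_mem (add_mem (add_mem (Ideal.mul_mem_left _ _ (R₁_mem A))
    (Ideal.mul_mem_left _ _ (R₂_mem A))) (Ideal.mul_mem_left _ _ (R₃_mem A)))
    (Ideal.mul_mem_left _ _ (det'_mem A)))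

end Lie3ModLib
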